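import Cfsg.Agent.Lib.Helper4.J2S.Main
import Cfsg.Agent.Lib.Helper5.G22d

set_option autoImplicit false

/-! # Data for the action of the point stabilizer of the presented group `J2` on 63 points -/

namespace Cfsg.Agent.Lib.Helper4.J2U

open Cfsg.Agent.Lib.Helper4.J2S
open Cfsg.Agent.Lib.Helper5.G22 (wordTab evalWord)

/-- the 63 points of the second orbit of the point stabilizer, in the order of the 63
non-isotropic points of the unitary space -/
def OML : List ℕ := [1, 14, 24, 35, 70, 40, 93, 15, 19, 21, 96, 78, 13, 82, 85, 88, 50, 68, 34, 16, 58, 74, 55, 57, 38, 59, 48, 83, 7, 67, 56, 94, 45, 11, 8, 36, 53, 54, 42, 22, 30, 27, 39, 99, 33, 2, 5, 97, 31, 65, 62, 17, 26, 69, 25, 37, 18, 29, 41, 92, 23, 47, 84]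

/-- the place of a point in the list -/
def IDXL : List ℕ := [63, 0, 45, 63, 63, 46, 63, 28, 34, 63, 63, 33, 63, 12, 1, 7, 19, 51, 56, 8, 63, 9, 39, 60, 2, 54, 52, 41, 63, 57, 40, 48, 63, 44, 18, 3, 35, 55, 24, 42, 5, 58, 38, 63, 63, 32, 63, 61, 26, 63, 16, 63, 63, 36, 37, 22, 30, 23, 20, 25, 63, 63, 50, 63, 63, 49, 63, 29, 17, 53, 4, 63, 63, 63, 21, 63, 63, 63, 11, 63, 63, 63, 13, 27, 62, 14, 63, 63, 15, 63, 63, 63, 59, 6, 31, 63, 10, 47, 63, 43]

/-- the places in the lists of the elements acting as the 56 unitary transvections -/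
def TVI : List (ℕ × ℕ) := [(86, 27), (47, 32), (40, 9), (16, 1), (52, 3), (133, 26), (18, 25), (112, 4), (71, 9), (7, 32), (0, 27), (20, 26), (106, 25), (107, 1), (20, 3), (108, 4), (44, 3), (45, 15), (33, 9), (71, 15), (132, 8), (63, 9), (111, 8), (27, 3), (1, 30), (6, 25), (72, 30), (9, 27), (37, 25), (28, 15), (138, 27), (33, 15), (117, 32), (32, 31), (87, 4), (4, 31), (71, 2), (83, 4), (142, 2), (40, 32), (99, 31), (83, 8), (7, 8), (83, 24), (143, 2), (139, 26), (10, 2), (12, 1), (24, 26), (46, 24), (118, 1), (9, 24), (161, 30), (161, 31), (7, 24), (155, 30)]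

/-- the place of a point -/
def idx (q : ℕ) : ℕ := IDXL.getD q 63

/-- the point at a place -/
def omv (j : ℕ) : ℕ := OML.getD j 0

/-- the elements acting as the 56 unitary transvections -/
def TVP : List (ℕ × ℕ) := TVI.map fun e => (KL.getD e.1 0, UL.getD e.2 0)

theorem length_OML : OML.length = 63 := by decide

theorem tvi_lt : TVI.all (fun e => decide (e.1 < 168) && decide (e.2 < 36)) = true := by decide

theorem length_TVI : TVI.length = 56 := by decide

theorem length_wordTab : wordTab.length = 56 := by decide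

theorem idx_omv : ∀ j < 63, idx (omv j) = j := by decide +kernel

theorem omv_lt : ∀ j < 63, omv j < 100 := by decide +kernel

theorem omv_idx : ∀ q < 100, idx q < 63 → omv (idx q) = q := by decide +kernel

theorem K_inv : KL.all (fun k => OML.all fun q => decide (idx (ap k q) < 63)) = true := by
  decide +kernel

theorem U_inv : UL.all (fun u => OML.all fun q => decide (idx (ap u q) < 63)) = true := by
  decide +kernel

theorem tv_ok : (List.zip TVP wordTab).all (fun e => (List.range 63).all fun j =>
    idx (ap e.1.2 (ap e.1.1 (omv j))) == evalWord e.2 j) = true := by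
  decide +kernel

theorem faithful_ok : KL.all (fun pk => UL.all fun pu =>
    !(OML.all fun q => ap pu (ap pk q) == q) || (pk == IDPK && pu == IDPK)) = true := by
  decide +kernel

end Cfsg.Agent.Lib.Helper4.J2U
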