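import Cfsg.Agent.Lib.Helper4.J2S.Main
import Cfsg.Agent.Lib.Helper6.Spor.J2Idx

set_option autoImplicit false

/-! # The point stabilizer of the presented group `J2` -/

namespace Cfsg.Agent.Lib.Helper4.J2U

open Cfsg.Agent.Lib.Helper4.J2S
open Cfsg.Agent.Lib.Helper6.TC Cfsg.Agent.Lib.Helper6.TCD
open Cfsg.Agent.Lib.Helper6.TCP.J2
open Cfsg.Agent.Lib.Helper6.J2Idx (S subw hsw)
open Classical

/-- the subgroup generated by the two words -/
noncomputable abbrev St : Subgroup G := subH Rels S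

/-- the stabilizer of the first point -/
noncomputable def St' : Subgroup G where
  carrier := {g | act g 0 = 0}
  one_mem' := act_one 0
  mul_mem' := by
    intro a b ha hb
    show act (a * b) 0 = 0
    rw [act_mul, ha, hb]
  inv_mem' := by
    intro a ha
    show act a⁻¹ 0 = 0
    have : act (a * a⁻¹) 0 = 0 := by rw [mul_inv_cancel, act_one]
    rw [act_mul, ha] at this
    exact this

theorem mem_St' {g : G} : g ∈ St' ↔ act g 0 = 0 := Iff.rfl

theorem subw_fix : ∀ w ∈ subw, wapp J2a.px w 0 = 0 := by decide +kernel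

theorem subw_lt : ∀ w ∈ subw, ∀ c ∈ w, c < 5 := by decide

theorem St_le : St ≤ St' := by
  rw [Subgroup.map_le_iff_le_comap, Subgroup.closure_le]
  intro s hs
  obtain ⟨w, hw, rfl⟩ := hsw s hs
  show act (PresentedGroup.mk Rels (wordElt gc w)) 0 = 0
  apply Fin.ext
  have := phi_word w (subw_lt w hw) 0
  unfold act
  rw [this]
  exact subw_fix w hw

theorem index_St : St.index = 100 := Cfsg.Agent.Lib.Helper6.J2Idx.orbits_thm.1

theorem card_St : Nat.card St = 6048 := by
  have h := Subgroup.card_mul_index St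
  rw [index_St, card_G] at h
  omega

theorem mem_St'_iff {g : G} : g ∈ St' ↔ ∃ pk ∈ KL, ∃ pu ∈ UL, g = elt pk * elt pu := by
  constructor
  · intro h
    exact stab0 h
  · rintro ⟨pk, hpk, pu, hpu, rfl⟩
    show act (elt pk * elt pu) 0 = 0
    rw [act_mul, K_fix0 hpk, U_fix0 hpu]

theorem card_St'_le : Nat.card St' ≤ 6048 := by
  have hsub : (St' : Set G) ⊆ (fun p : G × G => p.1 * p.2) '' (↑(KS ×ˢ US) : Set (G × G)) := by
    intro g hg
    have hg' : act g 0 = 0 := hg
    obtain ⟨pk, hpk, pu, hpu, e⟩ := stab0 hg'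
    refine ⟨(elt pk, elt pu), ?_, e.symm⟩
    rw [Finset.mem_coe, Finset.mem_product]
    exact ⟨mem_KS.mpr ⟨pk, hpk, rfl⟩, mem_US.mpr ⟨pu, hpu, rfl⟩⟩
  have h1 : Nat.card St' = (St' : Set G).ncard := rfl
  rw [h1]
  refine (Set.ncard_le_ncard hsub ((Finset.finite_toSet _).image _)).trans ?_
  refine (Set.ncard_image_le (Finset.finite_toSet _)).trans ?_
  rw [Set.ncard_coe_finset, Finset.card_product, card_KS, card_US]

theorem St_eq : St = St' := by
  apply Subgroup.eq_of_le_of_card_ge St_le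
  rw [card_St]
  exact card_St'_le

theorem mem_St_iff {g : G} : g ∈ St ↔ ∃ pk ∈ KL, ∃ pu ∈ UL, g = elt pk * elt pu := by
  rw [St_eq]
  exact mem_St'_iff

theorem mem_St_iff' {g : G} : g ∈ St ↔ act g 0 = 0 := by
  rw [St_eq]
  exact mem_St'

end Cfsg.Agent.Lib.Helper4.J2U
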