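import Cfsg.Agent.Lib.Helper4.J2U.U1
import Cfsg.Agent.Lib.Helper4.J2U.U2
import Cfsg.Agent.Lib.Helper5.G22e

set_option autoImplicit false

/-! # The point stabilizer of the presented group `J2` is the unitary group -/

namespace Cfsg.Agent.Lib.Helper4.J2U

open Cfsg.Agent.Lib.Helper4.J2S
open Cfsg.Agent.Lib.Helper6.TC Cfsg.Agent.Lib.Helper6.TCP.J2
open Cfsg.Agent.Lib.Helper5.G22
open Cfsg.Agent.Lib.Helper1.U43 (F9c)
open Classical

/-- the action of the product of two packed permutations -/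
theorem act_pair {pk pu : ℕ} (hk : pk ∈ KL) (hu : pu ∈ UL) {q : ℕ} (hq : q < 100) :
    (act (elt pk * elt pu) ⟨q, hq⟩).val = ap pu (ap pk q) := by
  rw [act_mul, (rep_elt (repr_K hk)).apply hq, (rep_elt (repr_U hu)).apply ((rep_elt (repr_K hk)).lt hq)]

theorem exists_omv_of_mem {q : ℕ} (h : q ∈ OML) : ∃ j, ∃ _ : j < 63, q = omv j := by
  obtain ⟨j, hj, e⟩ := List.mem_iff_getElem.mp h
  refine ⟨j, by rw [← length_OML]; exact hj, ?_⟩
  rw [← e]
  exact (List.getD_eq_getElem _ _ _).symm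

theorem idx_lt_of_mem {q : ℕ} (h : q ∈ OML) : idx q < 63 := by
  obtain ⟨j, hj, rfl⟩ := exists_omv_of_mem h
  rw [idx_omv j hj]
  exact hj

theorem mem_of_idx_lt {q : ℕ} (hq : q < 100) (h : idx q < 63) : q ∈ OML := by
  have := omv_idx q hq h
  rw [← this]
  unfold omv
  rw [List.getD_eq_getElem _ _ (by rw [length_OML]; exact h)]
  exact List.getElem_mem _

/-- the 63 points are stable under the point stabilizer -/
theorem idx_act {g : G} (hg : g ∈ St) (p : Fin 100) (hp : idx p.val < 63) :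
    idx (act g p).val < 63 := by
  obtain ⟨pk, hpk, pu, hpu, rfl⟩ := mem_St_iff.mp hg
  rw [act_pair hpk hpu p.isLt]
  have h1 := List.all_eq_true.mp (List.all_eq_true.mp K_inv pk hpk) p.val (mem_of_idx_lt p.isLt hp)
  rw [decide_eq_true_eq] at h1
  have h2 := List.all_eq_true.mp (List.all_eq_true.mp U_inv pu hpu) (ap pk p.val)
    (mem_of_idx_lt ((rep_elt (repr_K hpk)).lt p.isLt) h1)
  rw [decide_eq_true_eq] at h2
  exact h2

/-- the point at a place -/
def om (j : Fin 63) : Fin 100 := ⟨omv j.val, omv_lt j.val j.isLt⟩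

theorem idx_om (j : Fin 63) : idx (om j).val = j.val := idx_omv j.val j.isLt

theorem om_idx (p : Fin 100) (hp : idx p.val < 63) : om ⟨idx p.val, hp⟩ = p :=
  Fin.ext (omv_idx p.val p.isLt hp)

theorem idx_om_lt (j : Fin 63) : idx (om j).val < 63 := by
  rw [idx_om]
  exact j.isLt

/-- the action of the point stabilizer on the 63 places -/
@[reducible] noncomputable def act63 : MulAction ↥St (Fin 63) where
  smul g j := ⟨idx (act (g : G)⁻¹ (om j)).val, idx_act (Subgroup.inv_mem _ g.2) (om j) (idx_om_lt j)⟩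
  one_smul j := by
    refine Fin.ext ?_
    show idx (act ((1 : ↥St) : G)⁻¹ (om j)).val = j.val
    rw [Subgroup.coe_one, inv_one, act_one]
    exact idx_om j
  mul_smul g h j := by
    refine Fin.ext ?_
    show idx (act ((g * h : ↥St) : G)⁻¹ (om j)).val =
      idx (act (g : G)⁻¹ (om ⟨idx (act (h : G)⁻¹ (om j)).val, _⟩)).val
    rw [Subgroup.coe_mul, mul_inv_rev, act_mul, om_idx]

/-- the permutation representation on the 63 places -/
noncomputable def rhoJ : ↥St →* Equiv.Perm (Fin 63) := @MulAction.toPermHom ↥St (Fin 63) _ act63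

theorem rhoJ_apply (g : ↥St) (j : Fin 63) : (rhoJ g j).val = idx (act (g : G)⁻¹ (om j)).val := rfl

theorem rhoJ_injective : Function.Injective rhoJ := by
  rw [← MonoidHom.ker_eq_bot_iff, eq_bot_iff]
  intro g hg
  rw [MonoidHom.mem_ker] at hg
  rw [Subgroup.mem_bot]
  have hfix : ∀ j : Fin 63, act (g : G)⁻¹ (om j) = om j := by
    intro j
    have h1 := rhoJ_apply g j
    rw [hg, Equiv.Perm.one_apply] at h1
    have h2 := om_idx (act (g : G)⁻¹ (om j)) (by rw [← h1]; exact j.isLt)
    rw [← h2]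
    congr 1
    exact Fin.ext h1.symm
  obtain ⟨pk, hpk, pu, hpu, e⟩ := mem_St_iff.mp (Subgroup.inv_mem _ g.2)
  have hchk := List.all_eq_true.mp (List.all_eq_true.mp faithful_ok pk hpk) pu hpu
  rw [Bool.or_eq_true] at hchk
  rcases hchk with h | h
  · exfalso
    rw [Bool.not_eq_true', ← Bool.not_eq_true] at h
    apply h
    rw [List.all_eq_true]
    intro q hq
    rw [beq_iff_eq]
    obtain ⟨j, hj, rfl⟩ := exists_omv_of_mem hq
    have e1 : omv j = (om ⟨j, hj⟩).val := rfl
    rw [e1, ← act_pair hpk hpu (om ⟨j, hj⟩).isLt, ← e]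
    exact congrArg Fin.val (hfix ⟨j, hj⟩)
  · rw [Bool.and_eq_true, beq_iff_eq, beq_iff_eq] at h
    rw [h.1, h.2, elt_IDPK, mul_one, inv_eq_one] at e
    exact Subtype.ext e

theorem getD_mem_KL {i : ℕ} (h : i < 168) : KL.getD i 0 ∈ KL := by
  rw [List.getD_eq_getElem _ _ (by rw [length_KL]; exact h)]
  exact List.getElem_mem _

theorem getD_mem_UL {i : ℕ} (h : i < 36) : UL.getD i 0 ∈ UL := by
  rw [List.getD_eq_getElem _ _ (by rw [length_UL]; exact h)]
  exact List.getElem_mem _

theorem tvp_mem : ∀ p ∈ TVP, p.1 ∈ KL ∧ p.2 ∈ UL := by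
  intro p hp
  unfold TVP at hp
  rw [List.mem_map] at hp
  obtain ⟨e, he, rfl⟩ := hp
  have hlt := List.all_eq_true.mp tvi_lt e he
  rw [Bool.and_eq_true, decide_eq_true_eq, decide_eq_true_eq] at hlt
  exact ⟨getD_mem_KL hlt.1, getD_mem_UL hlt.2⟩

/-- the 56 unitary transvections are in the range -/
theorem word_mem_range : ∀ w ∈ wordTab, ∃ σ ∈ rhoJ.range, ∀ i : Fin 63, (σ i).1 = evalWord w i.1 := by
  intro w hw
  obtain ⟨n, hn, rfl⟩ := List.mem_iff_getElem.mp hw
  have hn' : n < TVP.length := by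
    unfold TVP
    rw [List.length_map, length_TVI, ← length_wordTab]
    exact hn
  have hzip : (TVP[n], wordTab[n]) ∈ List.zip TVP wordTab := by
    rw [List.mem_iff_getElem]
    refine ⟨n, by rw [List.length_zip]; omega, ?_⟩
    exact List.getElem_zip
  have hchk := List.all_eq_true.mp tv_ok _ hzip
  obtain ⟨hk, hu⟩ := tvp_mem _ (List.getElem_mem hn')
  have hg : elt (TVP[n]).1 * elt (TVP[n]).2 ∈ St := mem_St_iff.mpr ⟨_, hk, _, hu, rfl⟩
  refine ⟨rhoJ ⟨_, Subgroup.inv_mem _ hg⟩, ⟨_, rfl⟩, ?_⟩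
  intro i
  rw [rhoJ_apply]
  show idx (act (elt (TVP[n]).1 * elt (TVP[n]).2)⁻¹⁻¹ (om i)).val = _
  rw [inv_inv, act_pair hk hu (om i).isLt]
  have := List.all_eq_true.mp hchk i.val (List.mem_range.mpr i.isLt)
  rw [beq_iff_eq] at this
  exact this

/-- the image of a unitary transvection lies in a subgroup containing the 56 words -/
theorem gen_mem' (K : Subgroup (Equiv.Perm (Fin 63)))
    (hK : ∀ w ∈ wordTab, ∃ σ ∈ K, ∀ i : Fin 63, (σ i).1 = evalWord w i.1)
    (A : SUc) (v : Fin 3 → F9c) (c : F9c) (hv : Cfsg.hermForm 3 F9c 3 v v = 0)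
    (hA : matU A = Cfsg.unitaryTransvection 3 3 v c) : rho2 A ∈ K := by
  by_cases hv0 : v = 0
  · rw [hv0, ut_zero_vec] at hA
    rw [eq_one_of_matU hA, map_one]
    exact Subgroup.one_mem _
  · have hpres : ∀ x y : Fin 3 → F9c,
        Cfsg.hermForm 3 F9c 3 (Matrix.mulVec (Cfsg.unitaryTransvection 3 3 v c) x)
          (Matrix.mulVec (Cfsg.unitaryTransvection 3 3 v c) y) = Cfsg.hermForm 3 F9c 3 x y := by
      intro x y
      rw [← hA]
      exact A.2 x y
    rcases (Cfsg.Agent.S0779.result F9c_card 3 v hv0 hv c).1 hpres with hc | hc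
    · rw [hc, ut_zero_scalar] at hA
      rw [eq_one_of_matU hA, map_one]
      exact Subgroup.one_mem _
    · have hc1 : c ∈ [iU, -iU] := by
        have h1 : c ^ (3 - 1) = c ^ 2 := rfl
        rw [h1] at hc
        rcases sq_eq_neg_one c hc with h | h
        · rw [h]; exact List.mem_cons_self
        · rw [h]; exact List.mem_cons_of_mem _ List.mem_cons_self
      have hA' : matU A = utv (toVU v) c := by
        rw [hA]
        unfold utv
        rw [ofVU_toVU]
      have hh : hU (toVU v) = 0 := by rw [← hU_eq]; exact hv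
      have hword : ∃ σ ∈ K, ∀ i : Fin 63, (σ i).1 = evalWord (wordOf (toVU v) c) i.1 := by
        unfold wordOf wordAt
        generalize (2 * (isoL.idxOf (nrmU (toVU v))) +
          (if c * ((ldU (toVU v))⁻¹) ^ 4 = iU then 0 else 1)) = m
        by_cases h : m < wordTab.length
        · rw [List.getD_eq_getElem _ _ h]
          exact hK _ (List.getElem_mem h)
        · rw [List.getD_eq_default _ _ (not_lt.1 h)]
          exact ⟨1, Subgroup.one_mem _, fun i => rfl⟩
      obtain ⟨σ, hσ, hσ2⟩ := hword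
      have : rho2 A = σ := by
        apply Equiv.ext
        intro i
        apply Fin.ext
        rw [hσ2, rho2_apply, hA']
        exact utv_word _ _ _ hh c hc1 i
      rw [this]
      exact hσ

theorem range_le_of_words (K : Subgroup (Equiv.Perm (Fin 63)))
    (hK : ∀ w ∈ wordTab, ∃ σ ∈ K, ∀ i : Fin 63, (σ i).1 = evalWord w i.1) : rho2.range ≤ K := by
  have hgen := Cfsg.Agent.S0780.result F9c_card 3 (by norm_num) (by norm_num)
  rw [MonoidHom.range_eq_map, ← hgen, MonoidHom.map_closure, Subgroup.closure_le]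
  rintro _ ⟨A, ⟨v, c, hv, hA⟩, rfl⟩
  exact gen_mem' K hK A v c hv hA

theorem range_eq : rho2.range = rhoJ.range := by
  haveI : Finite ↥St := Nat.finite_of_card_ne_zero (by rw [card_St]; norm_num)
  haveI : Finite SUc := Nat.finite_of_card_ne_zero (by rw [card_SUc]; norm_num)
  apply Subgroup.eq_of_le_of_card_ge (range_le_of_words _ word_mem_range)
  rw [← Nat.card_congr (MonoidHom.ofInjective rhoJ_injective).toEquiv,
    ← Nat.card_congr (MonoidHom.ofInjective rho2_injective).toEquiv, card_St, card_SUc]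

/-- the point stabilizer is the projective special unitary group -/
theorem St_equiv : Nonempty (↥St ≃* Cfsg.PSU 3 F9c 3) := by
  have e1 : ↥St ≃* ↥rhoJ.range := MonoidHom.ofInjective rhoJ_injective
  have e2 : SUc ≃* ↥rho2.range := MonoidHom.ofInjective rho2_injective
  have e3 : SUc ≃* Cfsg.PSU 3 F9c 3 :=
    (QuotientGroup.quotientBot (G := SUc)).symm.trans
      (QuotientGroup.quotientMulEquivOfEq center_SUc.symm)
  exact ⟨e1.trans ((MulEquiv.subgroupCongr range_eq.symm).trans (e2.symm.trans e3))⟩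

end Cfsg.Agent.Lib.Helper4.J2U
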