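import Mathlib

set_option autoImplicit false

/-! # Transport of the orbits of a subgroup on its cosets along an isomorphism -/

namespace Cfsg.Agent.Lib.Helper4.J2U

variable {X Y : Type*} [Group X] [Group Y]

/-- the map of the coset spaces given by an isomorphism -/
def cosetMap (e : X ≃* Y) (K : Subgroup Y) : X ⧸ K.comap e.toMonoidHom → Y ⧸ K :=
  Quotient.map' e (by
    intro a b h
    rw [QuotientGroup.leftRel_apply] at h ⊢
    have : e (a⁻¹ * b) ∈ K := h
    rw [map_mul, map_inv] at this
    exact this)

theorem cosetMap_mk (e : X ≃* Y) (K : Subgroup Y) (x : X) :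
    cosetMap e K (QuotientGroup.mk x) = QuotientGroup.mk (e x) := rfl

theorem cosetMap_injective (e : X ≃* Y) (K : Subgroup Y) : Function.Injective (cosetMap e K) := by
  intro a b
  induction a using QuotientGroup.induction_on with
  | H a =>
    induction b using QuotientGroup.induction_on with
    | H b =>
      intro h
      rw [cosetMap_mk, cosetMap_mk, QuotientGroup.eq] at h
      rw [QuotientGroup.eq]
      show e (a⁻¹ * b) ∈ K
      rw [map_mul, map_inv]
      exact h

theorem cosetMap_surjective (e : X ≃* Y) (K : Subgroup Y) : Function.Surjective (cosetMap e K) := by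
  intro q
  induction q using QuotientGroup.induction_on with
  | H y =>
    refine ⟨QuotientGroup.mk (e.symm y), ?_⟩
    rw [cosetMap_mk, e.apply_symm_apply]

theorem cosetMap_smul (e : X ≃* Y) (K : Subgroup Y) (x : X) (c : X ⧸ K.comap e.toMonoidHom) :
    cosetMap e K (x • c) = e x • cosetMap e K c := by
  induction c using QuotientGroup.induction_on with
  | H a =>
    show cosetMap e K (QuotientGroup.mk (x * a)) = e x • (QuotientGroup.mk (e a) : Y ⧸ K)
    rw [cosetMap_mk, map_mul]
    rfl

theorem image_orbit (e : X ≃* Y) (K : Subgroup Y) (c : X ⧸ K.comap e.toMonoidHom) :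
    cosetMap e K '' MulAction.orbit ↥(K.comap e.toMonoidHom) c =
      MulAction.orbit ↥K (cosetMap e K c) := by
  ext q
  constructor
  · rintro ⟨_, ⟨h, rfl⟩, rfl⟩
    refine ⟨⟨e h.val, h.2⟩, ?_⟩
    show e h.val • cosetMap e K c = cosetMap e K (h.val • c)
    rw [cosetMap_smul]
  · rintro ⟨k, rfl⟩
    have hk : e.symm k.val ∈ K.comap e.toMonoidHom := by
      show e (e.symm k.val) ∈ K
      rw [e.apply_symm_apply]
      exact k.2
    refine ⟨(⟨e.symm k.val, hk⟩ : ↥(K.comap e.toMonoidHom)) • c, ⟨_, rfl⟩, ?_⟩
    show cosetMap e K (e.symm k.val • c) = k.val • cosetMap e K c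
    rw [cosetMap_smul, e.apply_symm_apply]

theorem exists_orbit_ncard (e : X ≃* Y) (K : Subgroup Y) (n : ℕ) (q : Y ⧸ K)
    (hq : (MulAction.orbit ↥K q).ncard = n) :
    ∃ c : X ⧸ K.comap e.toMonoidHom, (MulAction.orbit ↥(K.comap e.toMonoidHom) c).ncard = n := by
  obtain ⟨c, rfl⟩ := cosetMap_surjective e K q
  refine ⟨c, ?_⟩
  rw [← hq, ← image_orbit, Set.ncard_image_of_injective _ (cosetMap_injective e K)]

/-- the subgroup is isomorphic to its preimage -/
noncomputable def comapEquiv (e : X ≃* Y) (K : Subgroup Y) : ↥(K.comap e.toMonoidHom) ≃* ↥K :=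
  (e.subgroupMap (K.comap e.toMonoidHom)).trans
    (MulEquiv.subgroupCongr (Subgroup.map_comap_eq_self_of_surjective e.surjective K))

theorem index_comap_equiv (e : X ≃* Y) (K : Subgroup Y) : (K.comap e.toMonoidHom).index = K.index :=
  Subgroup.index_comap_of_surjective K e.surjective

end Cfsg.Agent.Lib.Helper4.J2U
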